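import Mathlib
import Groth.Agent.Lib.Helper5.KSix.PureAcyc
import Groth.Agent.Lib.Helper5.KSix.LTCx
import Groth.Agent.Lib.Helper5.KSix.ThickTensor

/-!
# Cohomological amplitude of `Y ⊗ E` for a bounded complex `E` of flat modules (helper5)
-/
set_option autoImplicit false
set_option linter.unusedSectionVars false
set_option linter.unusedVariables false
set_option linter.style.haveILetI false
universe v u
open CategoryTheory CategoryTheory.Limits MonoidalCategory HomologicalComplex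
attribute [local instance] HasDerivedCategory.standard

namespace Groth.Agent.Lib.Helper5.TensorAmp

open Groth.Agent.Lib.Helper5.Misc.KFlatGen Groth.Agent.Lib.Helper5.Misc.StupidTrunc
open Groth.Agent.Lib.Helper5.KFlat Groth.Agent.Helper5.FlatAcyc
open Groth.Agent.Lib.Helper5.KSixPure

section Concentrated

variable {A : Type u} [Category.{v} A] [Abelian A]
variable (T : A ⥤ A ⥤ A) [T.PreservesZeroMorphisms] [∀ X, (T.obj X).PreservesZeroMorphisms]
  [∀ (K₁ K₂ : CochainComplex A ℤ), HasMapBifunctor K₁ K₂ T (ComplexShape.up ℤ)]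
  (F Q : CochainComplex A ℤ) (a : ℤ) (hz : ∀ n, n ≠ a → IsZero (Q.X n))

include hz in
/-- degreewise version of `acyclic_concentrated` -/
theorem isZero_homology_concentrated (n : ℤ)
    (hex : (ShortComplex.mk ((T.map (F.d (n - a - 1) (n - a))).app (Q.X a))
      ((T.map (F.d (n - a) (n - a + 1))).app (Q.X a))
      (by rw [← NatTrans.comp_app, ← T.map_comp, F.d_comp_d, T.map_zero, zero_app])).Exact) :
    IsZero ((mapBifunctor F Q T (ComplexShape.up ℤ)).homology n) := by
  rw [← exactAt_iff_isZero_homology,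
    (mapBifunctor F Q T (ComplexShape.up ℤ)).exactAt_iff' (n - 1) n (n + 1) (by simp) (by simp)]
  have h0 : (n - a - 1) + a = n - 1 := by omega
  have h1 : (n - a) + a = n := by omega
  have h2 : (n - a + 1) + a = n + 1 := by omega
  have i0 := isIso_ι_concentrated T F Q a hz (n - a - 1) (n - 1) h0
  have i1 := isIso_ι_concentrated T F Q a hz (n - a) n h1
  have i2 := isIso_ι_concentrated T F Q a hz (n - a + 1) (n + 1) h2
  refine (ShortComplex.exact_iff_of_iso ?_).1 hex
  refine ShortComplex.isoMk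
    (@asIso _ _ _ _ (ιMapBifunctor F Q T (ComplexShape.up ℤ) (n - a - 1) a (n - 1) h0) i0)
    (@asIso _ _ _ _ (ιMapBifunctor F Q T (ComplexShape.up ℤ) (n - a) a n h1) i1)
    (@asIso _ _ _ _ (ιMapBifunctor F Q T (ComplexShape.up ℤ) (n - a + 1) a (n + 1) h2) i2) ?_ ?_
  · exact (ι_d_concentrated' T F Q a hz (n - a - 1) (n - a) (n - 1) n (by omega) (by omega) h0 h1)
  · exact (ι_d_concentrated' T F Q a hz (n - a) (n - a + 1) n (n + 1) rfl rfl h1 h2)

end Concentrated

variable {R : Type u} [CommRing R] (K : DRing.Cx R)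

/-- the class of complexes `L` with `K ⊗ L` exact outside `[lo, hi]` -/
def PD (lo hi : ℤ) (L : DRing.Cx R) : Prop :=
  ∀ i : ℤ, (i < lo ∨ hi < i) → IsZero ((K ⊗ L).homology i)

variable {K}

theorem PD.mono {lo hi lo' hi' : ℤ} {L : DRing.Cx R} (h : PD K lo hi L) (h1 : lo' ≤ lo)
    (h2 : hi ≤ hi') : PD K lo' hi' L := fun i hi => h i (by omega)

theorem PD_of_iso {lo hi : ℤ} {L L' : DRing.Cx R} (e : L ≅ L') (h : PD K lo hi L) :
    PD K lo hi L' := fun i hi =>
  IsZero.of_iso (h i hi) ((HomologicalComplex.homologyFunctor _ _ i).mapIso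
    ((tensorLeft K).mapIso e.symm))

theorem exactAt_TM_of_flat (M : ModuleCat.{u} R) [Module.Flat R M] (X : DRing.Cx R) (j : ℤ)
    (h : X.ExactAt j) : ((TM M).obj X).ExactAt j := by
  refine exactAt_of_exact _ (j - 1) j (j + 1) (by omega) rfl ?_
  rw [TM_d_hom, TM_d_hom]
  exact Module.Flat.rTensor_exact M (exact_of_exactAt X (j - 1) j (j + 1) (by omega) rfl h)

theorem PD_concentrated (c d : ℤ) (hK : ∀ i : ℤ, (i < c ∨ d < i) → K.ExactAt i)
    (Q : DRing.Cx R) (p : ℤ) (hz : ∀ n, n ≠ p → IsZero (Q.X n)) (hfl : Module.Flat R (Q.X p)) :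
    PD K (c + p) (d + p) Q := by
  intro n hn
  refine isZero_homology_concentrated (T R) K Q p hz n ?_
  have h1 : ((TM (Q.X p)).obj K).ExactAt (n - p) :=
    exactAt_TM_of_flat (Q.X p) K (n - p) (hK _ (by omega))
  exact (((TM (Q.X p)).obj K).exactAt_iff' (n - p - 1) (n - p) (n - p + 1) (by simp) (by simp)).1 h1

theorem PD_ses (lo hi : ℤ) (S : ShortComplex (DRing.Cx R))
    (hS : ∀ p q : ℤ, ((S.map (HomologicalComplex.eval _ _ q)).map ((T R).obj (K.X p))).ShortExact)
    (h1 : PD K lo hi S.X₁) (h3 : PD K lo hi S.X₃) : PD K lo hi S.X₂ := by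
  obtain ⟨z, hz⟩ := shortExact_tot (T R) K S hS
  intro i hi
  exact (hz.homology_exact₂ i).isZero_of_both_isZero (h1 i hi) (h3 i hi)

theorem flat_of_iso {M N : ModuleCat.{u} R} (e : M ≅ N) (h : Module.Flat R M) :
    Module.Flat R N :=
  Module.Flat.of_linearEquiv e.symm.toLinearEquiv

theorem PD_sigmaGE (c d : ℤ) (hK : ∀ i : ℤ, (i < c ∨ d < i) → K.ExactAt i)
    (L : DRing.Cx R) (b : ℤ) [L.IsStrictlyLE b] (hfl : ∀ n, Module.Flat R (L.X n)) (m : ℕ) :
    PD K (c + (b - m)) (d + b) (sigmaGE L (b - m)) := by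
  induction m with
  | zero =>
    have hb : b - ((0 : ℕ) : ℤ) ≤ b - ((0 : ℕ) : ℤ) := le_refl _
    have h0 := PD_concentrated c d hK (sigmaGE L (b - ((0 : ℕ) : ℤ))) (b - ((0 : ℕ) : ℤ))
      (fun n hn => ?_)
      (flat_of_iso (@asIso _ _ _ _ (tι L (b - ((0 : ℕ) : ℤ)) (b - ((0 : ℕ) : ℤ)))
        (isIso_tι L hb)).symm (hfl _))
    · exact h0.mono (le_refl _) (by simp)
    · by_cases h : b - ((0 : ℕ) : ℤ) ≤ n
      · have hn' : b < n := by
          have : b - ((0 : ℕ) : ℤ) = b := by simp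
          omega
        exact IsZero.of_iso (L.isZero_of_isStrictlyLE b n hn')
          (@asIso _ _ _ _ (tι L (b - ((0 : ℕ) : ℤ)) n) (isIso_tι L h))
      · exact isZero_tX L h
  | succ m ih =>
    have e : b - ((m + 1 : ℕ) : ℤ) + 1 = b - (m : ℤ) := by push_cast; ring
    have hQ : PD K (c + (b - ((m + 1 : ℕ) : ℤ))) (d + (b - ((m + 1 : ℕ) : ℤ)))
        (quotSC L (b - ((m + 1 : ℕ) : ℤ))).X₃ :=
      PD_concentrated c d hK _ (b - ((m + 1 : ℕ) : ℤ)) (fun n hn => isZero_quotSC_X₃ L _ n hn)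
        (flat_of_iso (quotSCX₃Iso L _).symm (hfl _))
    have h1 : PD K (c + (b - (m : ℤ))) (d + b) (quotSC L (b - ((m + 1 : ℕ) : ℤ))).X₁ := by
      show PD K (c + (b - (m : ℤ))) (d + b) (sigmaGE L (b - ((m + 1 : ℕ) : ℤ) + 1))
      rw [e]
      exact ih
    refine PD_ses _ _ (quotSC L (b - ((m + 1 : ℕ) : ℤ))) (fun p q => ?_)
      (h1.mono (by push_cast; omega) (le_refl _)) (hQ.mono (le_refl _) (by push_cast; omega))
    refine shortExact_map_of_isZero _ (quotSC_degree L _ q) ?_ _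
    by_cases hq : q = b - ((m + 1 : ℕ) : ℤ)
    · left
      subst hq
      exact isZero_tX L (by omega)
    · right
      exact isZero_quotSC_X₃ L _ q hq

/-- **`K ⊗ E` is exact outside `[c + a, d + b]`** when `K` is exact outside `[c, d]` and `E` is a
complex of flat modules placed in `[a, b]` -/
theorem PD_bounded (c d : ℤ) (hK : ∀ i : ℤ, (i < c ∨ d < i) → K.ExactAt i)
    (E : DRing.Cx R) (a b : ℤ) (hE : DRing.VanishesOutside E a b) (hfl : DRing.TermwiseFlat E) :
    PD K (c + a) (d + b) E := by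
  by_cases hab : a ≤ b
  · haveI : E.IsStrictlyLE b :=
      (CochainComplex.isStrictlyLE_iff E b).2 (fun i hi => hE i (Or.inr hi))
    have h1 := PD_sigmaGE c d hK E b hfl (b - a).toNat
    have hc : b - ((b - a).toNat : ℤ) = a := by
      have := Int.toNat_of_nonneg (by omega : 0 ≤ b - a)
      omega
    haveI := Groth.Agent.Lib.Helper5.KSixThick.isIso_ιGE E (b - ((b - a).toNat : ℤ))
      (fun i hi => hE i (Or.inl (by omega)))
    rw [hc] at h1
    rw [hc] at this
    exact PD_of_iso (asIso (ιGE E a)) h1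
  · have hz : ∀ n, IsZero (E.X n) := fun n => hE n (by omega)
    have h1 := PD_concentrated c d hK E a (fun n _ => hz n) (hfl a)
    have h2 := PD_concentrated c d hK E b (fun n _ => hz n) (hfl b)
    intro i hi
    rcases hi with hi | hi
    · exact h1 i (Or.inl hi)
    · exact h2 i (Or.inr hi)

end Groth.Agent.Lib.Helper5.TensorAmp
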