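import Mathlib
import Groth.Agent.Lib.Helper5.TensorAmp.TensorAmpA
import Groth.Agent.Lib.Helper5.DRing.NilTorC
import Groth.Agent.Lib.Helper5.Gen.ProjCx

/-!
# Tor amplitude via tensoring with resolutions of modules, and the tor amplitude of `L ⊗_B E`
over a smaller ring (helper5)
-/
set_option autoImplicit false
set_option linter.unusedSectionVars false
set_option linter.unusedVariables false
set_option linter.style.haveILetI false
universe u
open CategoryTheory CategoryTheory.Limits MonoidalCategory HomologicalComplex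
attribute [local instance] HasDerivedCategory.standard

namespace Groth.Agent.Lib.Helper5.TensorAmp

open Groth.Agent.Lib.Helper5.KProj Groth.Agent.Lib.Helper5.KFlat Groth.Agent.Lib.Helper5.DTenLib
open Groth.Agent.Helper5.FlatAcyc Groth.Agent.Lib.Helper5.KSixLT
open Groth.Agent.Helper5.TorAmp Groth.Agent.Lib.Helper5.NilTor

variable {A : Type u} [CommRing A]

/-- universal vanishing of `F_N ⊗ X` outside `[a, b]`, where `F_N` is the K-projective resolution of
the module `N` -/
def TorVanF (a b : ℤ) (X : DRing.Cx A) : Prop :=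
  ∀ (N : ModuleCat.{u} A) (i : ℤ), (i < a ∨ b < i) → IsZero ((res (S N) ⊗ X).homology i)

theorem isZero_homology_iff_of_quasiIso' {X Y : DRing.Cx A} (f : X ⟶ Y) (hf : QuasiIso f) (i : ℤ) :
    IsZero (X.homology i) ↔ IsZero (Y.homology i) :=
  (asIso (HomologicalComplex.homologyMap f i)).isZero_iff

/-- `S N ⊗ E ≅ E ⊗ N` termwise -/
noncomputable def singleTensorIso (N : ModuleCat.{u} A) (E : DRing.Cx A) :
    S N ⊗ E ≅ (TM N).obj E :=
  DTen.braidCx (S N) E ≪≫ (tensorConcIso E (S N) (isZero_S_X N) (SXIso N)).symm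

/-- for a K-flat `E`, the homology of `F_N ⊗ E` is that of `E ⊗ N` -/
theorem isZero_homology_res_tensor_iff (N : ModuleCat.{u} A) (E : DRing.Cx A)
    (hE : DRing.IsKFlat A E) (i : ℤ) :
    IsZero ((res (S N) ⊗ E).homology i) ↔ IsZero (((TM N).obj E).homology i) := by
  have h1 : QuasiIso (resMap (S N) ▷ E) := quasiIso_whiskerRight hE (resMap (S N)) inferInstance
  rw [isZero_homology_iff_of_quasiIso' (resMap (S N) ▷ E) h1 i]
  exact ((HomologicalComplex.homologyFunctor _ _ i).mapIso (singleTensorIso N E)).isZero_iff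

theorem torVanF_of_hasTorAmplitudeIn (X : DRing.Cx A) (a b : ℤ)
    (h : DRing.HasTorAmplitudeIn A a b (DRing.toD X)) : TorVanF a b X := by
  obtain ⟨E, hE1, hE2, ⟨e⟩⟩ := h
  intro N i hi
  have hEk : DRing.IsKFlat A E :=
    isKFlat_of_bounded_above E b (fun j hj => hE1 j (Or.inr hj)) hE2
  obtain ⟨g, hg⟩ := exists_Q_map_eq (res X) E (DerivedCategory.Q.map (resMap X) ≫ e.inv)
  have hgq : QuasiIso g := by
    rw [← DerivedCategory.isIso_Q_map_iff_quasiIso, hg]
    infer_instance
  have hF := isKFlat_res (S N)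
  have q1 : QuasiIso (res (S N) ◁ resMap X) := quasiIso_whiskerLeft hF (resMap X) inferInstance
  have q2 : QuasiIso (res (S N) ◁ g) := quasiIso_whiskerLeft hF g hgq
  rw [← isZero_homology_iff_of_quasiIso' _ q1 i, isZero_homology_iff_of_quasiIso' _ q2 i,
    isZero_homology_res_tensor_iff N E hEk i, ← exactAt_iff_isZero_homology]
  apply HomologicalComplex.ExactAt.of_isZero
  exact Functor.map_isZero (tensorRight N) (hE1 i hi)

theorem hasTorAmplitudeIn_of_torVanF (X : DRing.Cx A) (a b : ℤ) (h : TorVanF a b X) :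
    DRing.HasTorAmplitudeIn A a b (DRing.toD X) := by
  have hP : DRing.IsKFlat A (res X) := isKFlat_res X
  have hfl : DRing.TermwiseFlat (res X) := _root_.Helper5.Nak.termwiseFlat_res X
  refine hasTorAmplitudeIn_of_iso (asIso (DerivedCategory.Q.map (resMap X)))
    (hasTorAmplitudeIn_of_torVan_kproj (res X) hfl a b ?_)
  intro N i hi
  rw [exactAt_iff_isZero_homology, ← isZero_homology_res_tensor_iff N (res X) hP i]
  have hF := isKFlat_res (S N)
  have q1 : QuasiIso (res (S N) ◁ resMap X) := quasiIso_whiskerLeft hF (resMap X) inferInstance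
  rw [isZero_homology_iff_of_quasiIso' _ q1 i]
  exact h N i hi

theorem hasTorAmplitudeIn_iff_torVanF (X : DRing.Cx A) (a b : ℤ) :
    DRing.HasTorAmplitudeIn A a b (DRing.toD X) ↔ TorVanF a b X :=
  ⟨torVanF_of_hasTorAmplitudeIn X a b, hasTorAmplitudeIn_of_torVanF X a b⟩

section Two

open DTen _root_.Helper5.Gen

variable {B : Type u} [CommRing B] (φ : A →+* B)

theorem exactAt_of_resCx (L : DRing.Cx B) (i : ℤ) (h : ((resCx φ).obj L).ExactAt i) :
    L.ExactAt i :=
  (ShortComplex.exact_map_iff_of_faithful _ (ModuleCat.restrictScalars.{u} φ)).1 h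

theorem isZero_homology_resCx_iff (L : DRing.Cx B) (i : ℤ) :
    IsZero (((resCx φ).obj L).homology i) ↔ IsZero (L.homology i) := by
  rw [← exactAt_iff_isZero_homology, ← exactAt_iff_isZero_homology]
  exact ⟨exactAt_of_resCx φ L i, exactAt_resCx φ L i⟩

/-- **the tor amplitude of `L ⊗_B E` over `A`**, for `E` a complex of flat `B`-modules placed in
`[a, b]` and `L` of tor amplitude `[c, d]` over `A` -/
theorem torVanF_tensor (E L : DRing.Cx B) (a b c d : ℤ) (hE1 : DRing.VanishesOutside E a b)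
    (hE2 : DRing.TermwiseFlat E) (hL : TorVanF c d ((resCx φ).obj L)) :
    TorVanF (c + a) (d + b) ((resCx φ).obj (L ⊗ E)) := by
  intro N i hi
  let F : DRing.Cx A := res (S N)
  let Y : DRing.Cx B := (extCx φ).obj F ⊗ L
  have hY : ∀ j : ℤ, (j < c ∨ d < j) → Y.ExactAt j := by
    intro j hj
    rw [exactAt_iff_isZero_homology, ← isZero_homology_resCx_iff φ Y j]
    exact IsZero.of_iso (hL N j hj)
      ((HomologicalComplex.homologyFunctor _ _ j).mapIso (asIso (pf φ F L)).symm)
  have h1 := PD_bounded c d hY E a b hE1 hE2 i hi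
  have h2 : IsZero (((resCx φ).obj (Y ⊗ E)).homology i) :=
    (isZero_homology_resCx_iff φ (Y ⊗ E) i).2 h1
  have e1 : F ⊗ (resCx φ).obj (L ⊗ E) ≅ (resCx φ).obj ((extCx φ).obj F ⊗ (L ⊗ E)) :=
    asIso (pf φ F (L ⊗ E))
  have e2 : (extCx φ).obj F ⊗ (L ⊗ E) ≅ Y ⊗ E := (α_ ((extCx φ).obj F) L E).symm
  exact IsZero.of_iso h2 ((HomologicalComplex.homologyFunctor _ _ i).mapIso
    (e1 ≪≫ (resCx φ).mapIso e2))

end Two

end Groth.Agent.Lib.Helper5.TensorAmp
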