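import Mathlib
import Groth.Prelude.Def_DTen6
import Groth.Agent.Lib.Helper5.TensorAmp.TensorAmpB
import Groth.Agent.Lib.Helper5.TorAmp.BaseChange
import Groth.Agent.Lib.Helper5.KProj.LBC

/-!
# Faithfully flat descent of tor amplitude over a smaller ring (helper5)
-/
set_option autoImplicit false
set_option linter.unusedSectionVars false
set_option linter.unusedVariables false
set_option linter.style.haveILetI false
universe u
open CategoryTheory CategoryTheory.Limits MonoidalCategory HomologicalComplex
attribute [local instance] HasDerivedCategory.standard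

namespace Groth.Agent.Lib.Helper5.TensorAmp

open Groth.Agent.Lib.Helper5.KProj Groth.Agent.Lib.Helper5.KFlat Groth.Agent.Lib.Helper5.DTenLib
open Groth.Agent.Helper5.FlatAcyc Groth.Agent.Lib.Helper5.KSixLT
open Groth.Agent.Helper5.TorAmp Groth.Agent.Lib.Helper5.NilTor Groth.Agent.Helper5.FlatBC
open DTen _root_.Helper5.Gen

variable {R A B : Type u} [CommRing R] [CommRing A] [CommRing B] [Algebra A B]
  [Module.FaithfullyFlat A B]

theorem isZero_homology_ext_iff (Z : DRing.Cx A) (i : ℤ) :
    IsZero (((extCx (algebraMap A B)).obj Z).homology i) ↔ IsZero (Z.homology i) := by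
  constructor
  · intro h
    rw [← exactAt_iff_isZero_homology] at h ⊢
    exact exactAt_of_bc B Z i h
  · intro h
    exact IsZero.of_iso ((Ef B).map_isZero h) (homIso B Z i)

theorem torVanF_ff_iff (ρ : R →+* A) (P : DRing.Cx A) (a b : ℤ) :
    TorVanF a b ((resCx ρ).obj P) ↔
      TorVanF a b ((resCx ((algebraMap A B).comp ρ)).obj ((extCx (algebraMap A B)).obj P)) := by
  have key : ∀ (N : ModuleCat.{u} R) (i : ℤ),
      IsZero ((res (S N) ⊗ (resCx ρ).obj P).homology i) ↔
        IsZero ((res (S N) ⊗ (resCx ((algebraMap A B).comp ρ)).obj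
          ((extCx (algebraMap A B)).obj P)).homology i) := by
    intro N i
    let F : DRing.Cx R := res (S N)
    let Z : DRing.Cx A := (extCx ρ).obj F ⊗ P
    have e1 : F ⊗ (resCx ρ).obj P ≅ (resCx ρ).obj Z := asIso (pf ρ F P)
    have e2 : F ⊗ (resCx ((algebraMap A B).comp ρ)).obj ((extCx (algebraMap A B)).obj P) ≅
        (resCx ((algebraMap A B).comp ρ)).obj
          ((extCx ((algebraMap A B).comp ρ)).obj F ⊗ (extCx (algebraMap A B)).obj P) :=
      asIso (pf ((algebraMap A B).comp ρ) F ((extCx (algebraMap A B)).obj P))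
    have e3 : (extCx ((algebraMap A B).comp ρ)).obj F ⊗ (extCx (algebraMap A B)).obj P ≅
        (extCx (algebraMap A B)).obj Z :=
      whiskerRightIso ((extCompCx ρ (algebraMap A B)).app F).symm _ ≪≫
        (extTenCxIso (algebraMap A B) ((extCx ρ).obj F) P).symm
    have h1 : IsZero ((F ⊗ (resCx ρ).obj P).homology i) ↔ IsZero (Z.homology i) :=
      (((HomologicalComplex.homologyFunctor _ _ i).mapIso e1).isZero_iff).trans
        (isZero_homology_resCx_iff ρ Z i)
    have h2 : IsZero ((F ⊗ (resCx ((algebraMap A B).comp ρ)).obj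
        ((extCx (algebraMap A B)).obj P)).homology i) ↔
        IsZero (((extCx (algebraMap A B)).obj Z).homology i) :=
      (((HomologicalComplex.homologyFunctor _ _ i).mapIso e2).isZero_iff).trans
        ((isZero_homology_resCx_iff ((algebraMap A B).comp ρ) _ i).trans
          (((HomologicalComplex.homologyFunctor _ _ i).mapIso e3).isZero_iff))
    exact h1.trans ((isZero_homology_ext_iff Z i).symm.trans h2.symm)
  constructor
  · intro h N i hi
    exact (key N i).1 (h N i hi)
  · intro h N i hi
    exact (key N i).2 (h N i hi)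

/-- **S6951** in lib form -/
theorem hasTorAmplitudeIn_ff_iff (ρ : R →+* A) (φ' : R →+* B) (hφ : φ' = (algebraMap A B).comp ρ)
    [DRing.HasLBaseChange (algebraMap A B)] (K : Dual.D A) (a b : ℤ) :
    DRing.HasTorAmplitudeIn R a b ((DRing.restrictD ρ).obj K) ↔
      DRing.HasTorAmplitudeIn R a b ((DRing.restrictD φ').obj
        ((DRing.LBaseChange (algebraMap A B)).obj K)) := by
  subst hφ
  obtain ⟨P, hP, ⟨e⟩⟩ := exists_kproj_rep K
  haveI := hP
  have i1 : (DRing.restrictD ρ).obj K ≅ DRing.toD ((resCx ρ).obj P) :=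
    (DRing.restrictD ρ).mapIso e.symm ≪≫ (resFactors ρ).app P
  have i2 : (DRing.restrictD ((algebraMap A B).comp ρ)).obj
      ((DRing.LBaseChange (algebraMap A B)).obj K) ≅
      DRing.toD ((resCx ((algebraMap A B).comp ρ)).obj ((extCx (algebraMap A B)).obj P)) :=
    (DRing.restrictD ((algebraMap A B).comp ρ)).mapIso
      ((DRing.LBaseChange (algebraMap A B)).mapIso e.symm ≪≫ lbcIso (algebraMap A B) P) ≪≫
      (resFactors ((algebraMap A B).comp ρ)).app ((extCx (algebraMap A B)).obj P)
  constructor
  · intro h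
    refine hasTorAmplitudeIn_of_iso i2.symm (hasTorAmplitudeIn_of_torVanF _ a b ?_)
    exact (torVanF_ff_iff ρ P a b).1
      (torVanF_of_hasTorAmplitudeIn _ a b (hasTorAmplitudeIn_of_iso i1 h))
  · intro h
    refine hasTorAmplitudeIn_of_iso i1.symm (hasTorAmplitudeIn_of_torVanF _ a b ?_)
    exact (torVanF_ff_iff ρ P a b).2
      (torVanF_of_hasTorAmplitudeIn _ a b (hasTorAmplitudeIn_of_iso i2 h))

end Groth.Agent.Lib.Helper5.TensorAmp
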