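import Mathlib
import Groth.Prelude.Def_DTen6
import Groth.Agent.Lib.Helper5.TensorAmp.TensorAmpC
import Groth.Agent.Lib.Helper5.StalkTen.BCKFlat
import Groth.Agent.Lib.Helper5.Gen.ExtKProj

/-!
# Tor amplitude over `A` of a complex of `B`-modules can be checked at the maximal ideals of `B`
(helper5)
-/
set_option autoImplicit false
set_option linter.unusedSectionVars false
set_option linter.unusedVariables false
set_option linter.style.haveILetI false
universe u
open CategoryTheory CategoryTheory.Limits MonoidalCategory HomologicalComplex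
attribute [local instance] HasDerivedCategory.standard

namespace Groth.Agent.Lib.Helper5.TensorAmp

open Groth.Agent.Lib.Helper5.KProj Groth.Agent.Lib.Helper5.KFlat Groth.Agent.Lib.Helper5.DTenLib
open Groth.Agent.Helper5.FlatAcyc Groth.Agent.Lib.Helper5.KSixLT
open Groth.Agent.Helper5.TorAmp Groth.Agent.Lib.Helper5.NilTor Groth.Agent.Helper5.FlatBC
open DTen _root_.Helper5.Gen

section General

variable {A : Type u} [CommRing A]

/-- a variant of `torVanF_of_hasTorAmplitudeIn` for an arbitrary K-flat resolution of a module -/
theorem isZero_homology_tensor_of_hasTorAmplitudeIn (X : DRing.Cx A) (a b : ℤ)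
    (h : DRing.HasTorAmplitudeIn A a b (DRing.toD X)) (F' : DRing.Cx A)
    (hF' : DRing.IsKFlat A F') (N' : ModuleCat.{u} A) (q : F' ⟶ S N') (hq : QuasiIso q)
    (i : ℤ) (hi : i < a ∨ b < i) : IsZero ((F' ⊗ X).homology i) := by
  obtain ⟨E, hE1, hE2, ⟨e⟩⟩ := h
  have hEk : DRing.IsKFlat A E :=
    isKFlat_of_bounded_above E b (fun j hj => hE1 j (Or.inr hj)) hE2
  obtain ⟨g, hg⟩ := exists_Q_map_eq (res X) E (DerivedCategory.Q.map (resMap X) ≫ e.inv)
  have hgq : QuasiIso g := by
    rw [← DerivedCategory.isIso_Q_map_iff_quasiIso, hg]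
    infer_instance
  have q1 : QuasiIso (F' ◁ resMap X) := quasiIso_whiskerLeft hF' (resMap X) inferInstance
  have q2 : QuasiIso (F' ◁ g) := quasiIso_whiskerLeft hF' g hgq
  have q3 : QuasiIso (q ▷ E) := quasiIso_whiskerRight hEk q hq
  rw [← isZero_homology_iff_of_quasiIso' _ q1 i, isZero_homology_iff_of_quasiIso' _ q2 i,
    isZero_homology_iff_of_quasiIso' _ q3 i]
  refine (((HomologicalComplex.homologyFunctor _ _ i).mapIso (singleTensorIso N' E)).isZero_iff).2 ?_
  show IsZero (((TM N').obj E).homology i)
  rw [← exactAt_iff_isZero_homology]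
  apply HomologicalComplex.ExactAt.of_isZero
  exact Functor.map_isZero (tensorRight N') (hE1 i hi)

end General

section Max

variable {B : Type u} [CommRing B]

theorem isLocalizedModule_unit_atPrime (m : Ideal B) [m.IsPrime] (H : ModuleCat.{u} B) :
    IsLocalizedModule m.primeCompl
      (show ↑H →ₗ[B] ↑(N' (Localization.AtPrime m) H) from
        ((ModuleCat.extendRestrictScalarsAdj
          (algebraMap B (Localization.AtPrime m))).unit.app H).hom) := by
  rw [isLocalizedModule_iff_isBaseChange (S := m.primeCompl) (A := Localization.AtPrime m)]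
  exact IsBaseChange.of_equiv (eqv (Localization.AtPrime m) H) (fun x => rfl)

/-- a module vanishes when all its localisations at maximal ideals do -/
theorem isZero_of_localization_maximal (H : ModuleCat.{u} B)
    (h : ∀ (m : Ideal B) [m.IsMaximal], IsZero ((Ef (Localization.AtPrime m)).obj H)) :
    IsZero H := by
  have : Subsingleton H := by
    refine @Module.subsingleton_of_localization_maximal B H _ _ _
      (fun m _ => N' (Localization.AtPrime m) H) _ _
      (fun m _ => ((ModuleCat.extendRestrictScalarsAdj
          (algebraMap B (Localization.AtPrime m))).unit.app H).hom)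
      (fun P _ => isLocalizedModule_unit_atPrime P H) ?_
    intro m hm
    have h1 : Subsingleton ((Ef (Localization.AtPrime m)).obj H) :=
      ModuleCat.subsingleton_of_isZero (h m)
    exact h1
  exact ModuleCat.isZero_of_subsingleton H

end Max


section Main

variable {A B : Type u} [CommRing A] [CommRing B] [Algebra A B]

/-- the localisation of the resolution of `N` is a K-flat resolution of the localisation of `N` -/
theorem exists_quasiIso_ext_res {A' : Type u} [CommRing A'] [Algebra A A'] [Module.Flat A A']
    (N : ModuleCat.{u} A) :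
    ∃ q : (extCx (algebraMap A A')).obj (res (S N)) ⟶ S ((Ef A').obj N), QuasiIso q := by
  let e : (extCx (algebraMap A A')).obj (S N) ≅ S ((Ef A').obj N) :=
    (HomologicalComplex.singleMapHomologicalComplex (Ef A') (ComplexShape.up ℤ) 0).app N
  have h1 : QuasiIso ((Ec A').map (resMap (S N))) := inferInstance
  exact ⟨(Ec A').map (resMap (S N)) ≫ e.hom, inferInstance⟩

/-- **S12092 in lib form** -/
theorem torVanF_of_localization_maximal (K : DRing.Cx B) (a b : ℤ)
    (h3 : ∀ (m : Ideal B) [m.IsMaximal],
      DRing.HasTorAmplitudeIn (Localization.AtPrime (m.comap (algebraMap A B))) a b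
        (DRing.toD ((resCx (Localization.localRingHom (m.comap (algebraMap A B)) m
          (algebraMap A B) rfl)).obj ((extCx (algebraMap B (Localization.AtPrime m))).obj K)))) :
    TorVanF a b ((resCx (algebraMap A B)).obj K) := by
  intro N i hi
  let F : DRing.Cx A := res (S N)
  let Z : DRing.Cx B := (extCx (algebraMap A B)).obj F ⊗ K
  have e0 : F ⊗ (resCx (algebraMap A B)).obj K ≅ (resCx (algebraMap A B)).obj Z :=
    asIso (pf (algebraMap A B) F K)
  refine IsZero.of_iso ?_ ((HomologicalComplex.homologyFunctor _ _ i).mapIso e0)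
  show IsZero (((resCx (algebraMap A B)).obj Z).homology i)
  rw [isZero_homology_resCx_iff]
  apply isZero_of_localization_maximal
  intro m hm
  refine IsZero.of_iso ?_ (homIso (Localization.AtPrime m) Z i).symm
  -- notation
  let p : Ideal A := m.comap (algebraMap A B)
  let lam : B →+* Localization.AtPrime m := algebraMap B (Localization.AtPrime m)
  let ell : A →+* Localization.AtPrime p := algebraMap A (Localization.AtPrime p)
  let psi : Localization.AtPrime p →+* Localization.AtPrime m :=
    Localization.localRingHom p m (algebraMap A B) rfl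
  have hcomm : lam.comp (algebraMap A B) = psi.comp ell := by
    ext x
    exact (Localization.localRingHom_to_map p m (algebraMap A B) rfl x).symm
  let F' : DRing.Cx (Localization.AtPrime p) := (extCx ell).obj F
  let Km : DRing.Cx (Localization.AtPrime m) := (extCx lam).obj K
  have e1 : (extCx lam).obj Z ≅ (extCx lam).obj ((extCx (algebraMap A B)).obj F) ⊗ Km :=
    extTenCxIso lam ((extCx (algebraMap A B)).obj F) K
  have e2 : (extCx lam).obj ((extCx (algebraMap A B)).obj F) ≅ (extCx psi).obj F' :=
    (extCompCx (algebraMap A B) lam).app F ≪≫ eqToIso (by rw [hcomm]) ≪≫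
      ((extCompCx ell psi).app F).symm
  have e3 : F' ⊗ (resCx psi).obj Km ≅ (resCx psi).obj ((extCx psi).obj F' ⊗ Km) :=
    asIso (pf psi F' Km)
  have hF' : DRing.IsKFlat (Localization.AtPrime p) F' :=
    Groth.Agent.Lib.Helper5.BCKFlat.isKFlat_extendScalars ell F (isKFlat_res (S N))
  obtain ⟨q, hq⟩ := exists_quasiIso_ext_res (A' := Localization.AtPrime p) N
  have key : IsZero ((F' ⊗ (resCx psi).obj Km).homology i) :=
    isZero_homology_tensor_of_hasTorAmplitudeIn _ a b (h3 m) F' hF' _ q hq i hi
  have h4 : IsZero (((extCx psi).obj F' ⊗ Km).homology i) :=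
    (isZero_homology_resCx_iff psi _ i).1
      (IsZero.of_iso key ((HomologicalComplex.homologyFunctor _ _ i).mapIso e3.symm))
  exact IsZero.of_iso h4 ((HomologicalComplex.homologyFunctor _ _ i).mapIso
    (e1 ≪≫ whiskerRightIso e2 Km))

end Main

end Groth.Agent.Lib.Helper5.TensorAmp
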