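import Mathlib
import Groth.Agent.Lib.Helper5.TensorAmp.TensorAmpB

/-!
# Tor amplitude of `(P ⊗_B C) ⊗_C F` over `A` for ring maps `A → B → C` (helper5)
-/
set_option autoImplicit false
set_option linter.unusedSectionVars false
set_option linter.unusedVariables false
set_option linter.style.haveILetI false
universe u
open CategoryTheory CategoryTheory.Limits MonoidalCategory HomologicalComplex
attribute [local instance] HasDerivedCategory.standard

namespace Groth.Agent.Lib.Helper5.TensorAmp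

open Groth.Agent.Lib.Helper5.KProj Groth.Agent.Lib.Helper5.KFlat Groth.Agent.Lib.Helper5.DTenLib
open Groth.Agent.Helper5.FlatAcyc Groth.Agent.Lib.Helper5.KSixLT
open Groth.Agent.Helper5.TorAmp Groth.Agent.Lib.Helper5.NilTor
open DTen _root_.Helper5.Gen

variable {A : Type u} [CommRing A]

theorem torVanF_iff_of_quasiIso {X Y : DRing.Cx A} (f : X ⟶ Y) (hf : QuasiIso f) (a b : ℤ) :
    TorVanF a b X ↔ TorVanF a b Y := by
  rw [← hasTorAmplitudeIn_iff_torVanF, ← hasTorAmplitudeIn_iff_torVanF]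
  exact ⟨fun h => hasTorAmplitudeIn_of_iso (asIso (DerivedCategory.Q.map f)) h,
    fun h => hasTorAmplitudeIn_of_iso (asIso (DerivedCategory.Q.map f)).symm h⟩

theorem torVanF_iff_of_iso {X Y : DRing.Cx A} (e : X ≅ Y) (a b : ℤ) :
    TorVanF a b X ↔ TorVanF a b Y :=
  torVanF_iff_of_quasiIso e.hom inferInstance a b

variable {B C : Type u} [CommRing B] [CommRing C] (φ : A →+* B) (ψ : B →+* C)

theorem quasiIso_resCx_map {X Y : DRing.Cx B} (f : X ⟶ Y) (hf : QuasiIso f) :
    QuasiIso ((resCx φ).map f) := by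
  infer_instance

/-- **the tor amplitude of `(P ⊗_B C) ⊗_C F` over `A`** -/
theorem torVanF_ext_tensor (P : DRing.Cx B) (hP : DRing.IsKFlat B P) (Fx : DRing.Cx C)
    (a b c d : ℤ) (hPv : TorVanF c d ((resCx φ).obj P))
    (hF : DRing.HasTorAmplitudeIn B a b (DRing.toD ((resCx ψ).obj Fx))) :
    TorVanF (c + a) (d + b) ((resCx φ).obj ((resCx ψ).obj ((extCx ψ).obj P ⊗ Fx))) := by
  obtain ⟨E, hE1, hE2, ⟨e⟩⟩ := hF
  let W : DRing.Cx B := (resCx ψ).obj Fx
  obtain ⟨g, hg⟩ := exists_Q_map_eq (res W) E (DerivedCategory.Q.map (resMap W) ≫ e.inv)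
  have hgq : QuasiIso g := by
    rw [← DerivedCategory.isIso_Q_map_iff_quasiIso, hg]
    infer_instance
  have q1 : QuasiIso (P ◁ resMap W) := quasiIso_whiskerLeft hP (resMap W) inferInstance
  have q2 : QuasiIso (P ◁ g) := quasiIso_whiskerLeft hP g hgq
  have h3 := torVanF_tensor φ E P a b c d hE1 hE2 hPv
  rw [← torVanF_iff_of_quasiIso _ (quasiIso_resCx_map φ _ q2),
    torVanF_iff_of_quasiIso _ (quasiIso_resCx_map φ _ q1)] at h3
  exact (torVanF_iff_of_iso ((resCx φ).mapIso (asIso (pf ψ P Fx))) _ _).1 h3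

/-- the unit version -/
theorem torVanF_ext (P : DRing.Cx B) (hP : DRing.IsKFlat B P)
    (a b c d : ℤ) (hPv : TorVanF c d ((resCx φ).obj P))
    (hF : DRing.HasTorAmplitudeIn B a b (DRing.toD ((resCx ψ).obj (𝟙_ (DRing.Cx C))))) :
    TorVanF (c + a) (d + b) ((resCx φ).obj ((resCx ψ).obj ((extCx ψ).obj P))) := by
  have h := torVanF_ext_tensor φ ψ P hP (𝟙_ (DRing.Cx C)) a b c d hPv hF
  exact (torVanF_iff_of_iso ((resCx φ).mapIso ((resCx ψ).mapIso (ρ_ ((extCx ψ).obj P)))) _ _).1 h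

end Groth.Agent.Lib.Helper5.TensorAmp
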