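import Mathlib
import Groth.Agent.Lib.Helper5.TensorAmp.TensorAmpD
import Groth.Agent.Lib.Helper5.TensorAmp.TensorAmpE

/-!
# Tor amplitude over `R` of an `A`-complex, locally on families `R → B_x`, `A → C_x` (helper5)
-/
set_option autoImplicit false
set_option linter.unusedSectionVars false
set_option linter.unusedVariables false
set_option linter.style.haveILetI false
universe u
open CategoryTheory CategoryTheory.Limits MonoidalCategory HomologicalComplex
attribute [local instance] HasDerivedCategory.standard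

namespace Groth.Agent.Lib.Helper5.TensorAmp

open Groth.Agent.Lib.Helper5.KProj Groth.Agent.Lib.Helper5.KFlat Groth.Agent.Lib.Helper5.DTenLib
open Groth.Agent.Helper5.FlatAcyc Groth.Agent.Lib.Helper5.KSixLT
open Groth.Agent.Helper5.TorAmp Groth.Agent.Lib.Helper5.NilTor Groth.Agent.Helper5.FlatBC
open DTen _root_.Helper5.Gen

section Balance

variable {A : Type u} [CommRing A]

/-- the homology of `F ⊗ X` for a K-flat resolution `F` of a module `N` is that of
`S N ⊗ res X` -/
theorem isZero_homology_tensor_resolution_iff (X : DRing.Cx A) (F : DRing.Cx A)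
    (hF : DRing.IsKFlat A F) (N : ModuleCat.{u} A) (q : F ⟶ S N) (hq : QuasiIso q) (i : ℤ) :
    IsZero ((F ⊗ X).homology i) ↔ IsZero ((S N ⊗ res X).homology i) := by
  have q1 : QuasiIso (F ◁ resMap X) := quasiIso_whiskerLeft hF (resMap X) inferInstance
  have q2 : QuasiIso (q ▷ res X) := quasiIso_whiskerRight (isKFlat_res X) q hq
  rw [← isZero_homology_iff_of_quasiIso' _ q1 i, isZero_homology_iff_of_quasiIso' _ q2 i]

/-- the vanishing of the homology of `F ⊗ X` does not depend on the K-flat resolution `F` of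
the module `N` -/
theorem isZero_homology_tensor_iff_of_resolutions (X : DRing.Cx A) (F₁ F₂ : DRing.Cx A)
    (h₁ : DRing.IsKFlat A F₁) (h₂ : DRing.IsKFlat A F₂) (N : ModuleCat.{u} A)
    (q₁ : F₁ ⟶ S N) (hq₁ : QuasiIso q₁) (q₂ : F₂ ⟶ S N) (hq₂ : QuasiIso q₂) (i : ℤ) :
    IsZero ((F₁ ⊗ X).homology i) ↔ IsZero ((F₂ ⊗ X).homology i) := by
  rw [isZero_homology_tensor_resolution_iff X F₁ h₁ N q₁ hq₁ i,
    isZero_homology_tensor_resolution_iff X F₂ h₂ N q₂ hq₂ i]

end Balance

section Family

variable {R A : Type u} [CommRing R] [CommRing A] (φ : R →+* A)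

/-- **local to global**: tor amplitude over `R` can be checked on a jointly conservative family of
flat `A`-algebras `C x` lying over flat `R`-algebras `B x` -/
theorem torVanF_of_family {ι : Type*} (B C : ι → Type u) [∀ x, CommRing (B x)]
    [∀ x, CommRing (C x)] (ell : ∀ x, R →+* B x) (lam : ∀ x, A →+* C x)
    (psi : ∀ x, B x →+* C x) (hcomm : ∀ x, (lam x).comp φ = (psi x).comp (ell x))
    (hell : ∀ x, letI := (ell x).toAlgebra; Module.Flat R (B x))
    (hlam : ∀ x, letI := (lam x).toAlgebra; Module.Flat A (C x))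
    (hcons : ∀ H : ModuleCat.{u} A,
      (∀ x, IsZero ((ModuleCat.extendScalars.{u, u, u} (lam x)).obj H)) → IsZero H)
    (K : DRing.Cx A) (a b : ℤ)
    (h : ∀ x, DRing.HasTorAmplitudeIn (B x) a b
      (DRing.toD ((resCx (psi x)).obj ((extCx (lam x)).obj K)))) :
    TorVanF a b ((resCx φ).obj K) := by
  intro N i hi
  let F : DRing.Cx R := res (S N)
  let Z : DRing.Cx A := (extCx φ).obj F ⊗ K
  have e0 : F ⊗ (resCx φ).obj K ≅ (resCx φ).obj Z := asIso (pf φ F K)
  refine IsZero.of_iso ?_ ((HomologicalComplex.homologyFunctor _ _ i).mapIso e0)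
  show IsZero (((resCx φ).obj Z).homology i)
  rw [isZero_homology_resCx_iff]
  apply hcons
  intro x
  letI : Algebra R (B x) := (ell x).toAlgebra
  letI : Algebra A (C x) := (lam x).toAlgebra
  haveI : Module.Flat R (B x) := hell x
  haveI : Module.Flat A (C x) := hlam x
  refine IsZero.of_iso ?_ (homIso (C x) Z i).symm
  let F' : DRing.Cx (B x) := (extCx (ell x)).obj F
  let Kx : DRing.Cx (C x) := (extCx (lam x)).obj K
  have e1 : (extCx (lam x)).obj Z ≅ (extCx (lam x)).obj ((extCx φ).obj F) ⊗ Kx :=
    extTenCxIso (lam x) ((extCx φ).obj F) K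
  have e2 : (extCx (lam x)).obj ((extCx φ).obj F) ≅ (extCx (psi x)).obj F' :=
    (extCompCx φ (lam x)).app F ≪≫ eqToIso (by rw [hcomm x]) ≪≫
      ((extCompCx (ell x) (psi x)).app F).symm
  have e3 : F' ⊗ (resCx (psi x)).obj Kx ≅ (resCx (psi x)).obj ((extCx (psi x)).obj F' ⊗ Kx) :=
    asIso (pf (psi x) F' Kx)
  have hF' : DRing.IsKFlat (B x) F' :=
    Groth.Agent.Lib.Helper5.BCKFlat.isKFlat_extendScalars (ell x) F (isKFlat_res (S N))
  obtain ⟨q, hq⟩ := exists_quasiIso_ext_res (A' := B x) N
  have key : IsZero ((F' ⊗ (resCx (psi x)).obj Kx).homology i) :=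
    isZero_homology_tensor_of_hasTorAmplitudeIn _ a b (h x) F' hF' _ q hq i hi
  have h4 : IsZero (((extCx (psi x)).obj F' ⊗ Kx).homology i) :=
    (isZero_homology_resCx_iff (psi x) _ i).1
      (IsZero.of_iso key ((HomologicalComplex.homologyFunctor _ _ i).mapIso e3.symm))
  exact IsZero.of_iso h4 ((HomologicalComplex.homologyFunctor _ _ i).mapIso
    (e1 ≪≫ whiskerRightIso e2 Kx))

/-- **global to local**: tor amplitude over `R` gives tor amplitude of the base change to a flat
`A`-algebra `C` over a flat `R`-algebra `B` such that every `B`-module is extended from its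
restriction to `R` -/
theorem torVanF_local_of_global {B C : Type u} [CommRing B] [CommRing C] (ell : R →+* B)
    (lam : A →+* C) (psi : B →+* C) (hcomm : lam.comp φ = psi.comp ell)
    (hell : letI := ell.toAlgebra; Module.Flat R B)
    (hlam : letI := lam.toAlgebra; Module.Flat A C)
    (hepi : ∀ N' : ModuleCat.{u} B,
      IsIso ((ModuleCat.extendRestrictScalarsAdj.{u, u, u} ell).counit.app N'))
    (K : DRing.Cx A) (a b : ℤ) (h : TorVanF a b ((resCx φ).obj K)) :
    TorVanF a b ((resCx psi).obj ((extCx lam).obj K)) := by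
  intro N' i hi
  letI : Algebra R B := ell.toAlgebra
  letI : Algebra A C := lam.toAlgebra
  haveI : Module.Flat R B := hell
  haveI : Module.Flat A C := hlam
  let N : ModuleCat.{u} R := (ModuleCat.restrictScalars.{u} ell).obj N'
  let F : DRing.Cx R := res (S N)
  let F' : DRing.Cx B := (extCx ell).obj F
  let Kx : DRing.Cx C := (extCx lam).obj K
  have hF' : DRing.IsKFlat B F' :=
    Groth.Agent.Lib.Helper5.BCKFlat.isKFlat_extendScalars ell F (isKFlat_res (S N))
  obtain ⟨q, hq⟩ := exists_quasiIso_ext_res (A' := B) N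
  haveI := hepi N'
  let c : (Ef B).obj N ≅ N' :=
    asIso ((ModuleCat.extendRestrictScalarsAdj.{u, u, u} ell).counit.app N')
  let q' : F' ⟶ S N' := q ≫ (CochainComplex.singleFunctor (ModuleCat.{u} B) 0).map c.hom
  have hq' : QuasiIso q' := by
    haveI := hq
    dsimp only [q']
    infer_instance
  rw [isZero_homology_tensor_iff_of_resolutions ((resCx psi).obj Kx) (res (S N')) F'
    (isKFlat_res (S N')) hF' N' (resMap (S N')) inferInstance q' hq' i]
  -- now the vanishing for `F'`
  let Z : DRing.Cx A := (extCx φ).obj F ⊗ K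
  have hZ : IsZero (Z.homology i) := by
    have h1 := h N i hi
    have e0 : F ⊗ (resCx φ).obj K ≅ (resCx φ).obj Z := asIso (pf φ F K)
    exact (isZero_homology_resCx_iff φ Z i).1
      (IsZero.of_iso h1 ((HomologicalComplex.homologyFunctor _ _ i).mapIso e0.symm))
  have hZ' : IsZero (((extCx lam).obj Z).homology i) :=
    IsZero.of_iso ((Ef C).map_isZero hZ) (homIso C Z i)
  have e1 : (extCx lam).obj Z ≅ (extCx lam).obj ((extCx φ).obj F) ⊗ Kx :=
    extTenCxIso lam ((extCx φ).obj F) K
  have e2 : (extCx lam).obj ((extCx φ).obj F) ≅ (extCx psi).obj F' :=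
    (extCompCx φ lam).app F ≪≫ eqToIso (by rw [hcomm]) ≪≫ ((extCompCx ell psi).app F).symm
  have e3 : F' ⊗ (resCx psi).obj Kx ≅ (resCx psi).obj ((extCx psi).obj F' ⊗ Kx) :=
    asIso (pf psi F' Kx)
  have h4 : IsZero (((extCx psi).obj F' ⊗ Kx).homology i) :=
    IsZero.of_iso hZ' ((HomologicalComplex.homologyFunctor _ _ i).mapIso
      (e1 ≪≫ whiskerRightIso e2 Kx).symm)
  exact IsZero.of_iso ((isZero_homology_resCx_iff psi _ i).2 h4)
    ((HomologicalComplex.homologyFunctor _ _ i).mapIso e3)

end Family

section Epi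

variable {R B : Type u} [CommRing R] [CommRing B]

/-- restriction of scalars along a localization is full -/
theorem full_restrictScalars_of_isLocalization (ell : R →+* B) (M : Submonoid R)
    (h : letI := ell.toAlgebra; IsLocalization M B) :
    (ModuleCat.restrictScalars.{u} ell).Full := by
  letI : Algebra R B := ell.toAlgebra
  haveI : IsLocalization M B := h
  refine ⟨fun {N₁ N₂} f => ?_⟩
  letI : Module R N₁ := Module.compHom N₁ ell
  letI : Module R N₂ := Module.compHom N₂ ell
  haveI : IsScalarTower R B N₁ := ⟨fun r b n => by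
    change (ell r * b) • n = ell r • (b • n)
    rw [mul_smul]⟩
  haveI : IsScalarTower R B N₂ := ⟨fun r b n => by
    change (ell r * b) • n = ell r • (b • n)
    rw [mul_smul]⟩
  let g : N₁ →ₗ[R] N₂ := f.hom
  have hc := IsLocalization.linearMap_compatibleSMul M B N₁ N₂
  refine ⟨ModuleCat.ofHom
    { toFun := fun n => g n
      map_add' := fun x y => g.map_add x y
      map_smul' := fun b n => hc.map_smul g b n }, ?_⟩
  ext n
  rfl

/-- every module over a localization is extended from its restriction -/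
theorem isIso_counit_of_isLocalization (ell : R →+* B) (M : Submonoid R)
    (h : letI := ell.toAlgebra; IsLocalization M B) (N' : ModuleCat.{u} B) :
    IsIso ((ModuleCat.extendRestrictScalarsAdj.{u, u, u} ell).counit.app N') := by
  haveI := full_restrictScalars_of_isLocalization ell M h
  infer_instance

end Epi

end Groth.Agent.Lib.Helper5.TensorAmp
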