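import Mathlib
import Groth.Agent.Lib.Helper5.TensorAmp.TensorAmpE
import Groth.Agent.Lib.Helper5.TorAmp.TorRes
import Groth.Agent.Lib.Helper5.TorAmp.TorDim

/-!
# Bijective ring maps: the unit of extension/restriction of scalars, and transport of tor
amplitude (helper5)
-/
set_option autoImplicit false
set_option linter.unusedSectionVars false
set_option linter.unusedVariables false
set_option linter.style.haveILetI false
universe u
open CategoryTheory CategoryTheory.Limits MonoidalCategory HomologicalComplex
attribute [local instance] HasDerivedCategory.standard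

namespace Groth.Agent.Lib.Helper5.TensorAmp

open Groth.Agent.Helper5.TorAmp
open DTen

variable {B B' : Type u} [CommRing B] [CommRing B']

/-- the unit `M → B' ⊗_B M` is an isomorphism for a bijective ring map -/
theorem isIso_unit_of_bijective (γ : B →+* B') (hγ : Function.Bijective γ) (M : ModuleCat.{u} B) :
    IsIso ((ModuleCat.extendRestrictScalarsAdj.{u, u, u} γ).unit.app M) := by
  rw [ConcreteCategory.isIso_iff_bijective]
  letI := γ.toAlgebra
  let e : B ≃ₗ[B] B' := LinearEquiv.ofBijective (Algebra.linearMap B B') hγ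
  let e2 : M ≃ₗ[B] TensorProduct B B' M :=
    (TensorProduct.lid B M).symm ≪≫ₗ LinearEquiv.rTensor M e
  have hfun : ∀ m : M, (ModuleCat.extendRestrictScalarsAdj.{u, u, u} γ).unit.app M m = e2 m := by
    intro m
    rw [ModuleCat.extendRestrictScalarsAdj_unit_app_apply]
    simp [e2, e]
  constructor
  · intro m m' hm
    apply e2.injective
    rw [← hfun, ← hfun]
    exact hm
  · intro t
    obtain ⟨m, hm⟩ := e2.surjective t
    exact ⟨m, (hfun m).trans hm⟩

/-- the unit `K → (K ⊗_B B')|_B` is an isomorphism of complexes for a bijective ring map -/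
theorem isIso_unitCx_of_bijective (γ : B →+* B') (hγ : Function.Bijective γ) (K : DRing.Cx B) :
    IsIso ((unitCx γ).app K) := by
  haveI : ∀ n, IsIso (((unitCx γ).app K).f n) := fun n => isIso_unit_of_bijective γ hγ (K.X n)
  exact HomologicalComplex.Hom.isIso_of_components _

/-- restricting twice -/
noncomputable def resResIso₁ (β : B →+* B') (σ : B' →+* B) (L : DRing.Cx B') :
    (resCx σ).obj ((resCx β).obj L) ≅ (resCx (β.comp σ)).obj L :=
  HomologicalComplex.Hom.isoOfComponents
    (fun i => (ModuleCat.restrictScalarsComp'.{u} σ β (β.comp σ) rfl).symm.app (L.X i))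
    (fun i j _ =>
      ((ModuleCat.restrictScalarsComp'.{u} σ β (β.comp σ) rfl).inv.naturality (L.d i j)).symm)

/-- restricting along the identity -/
noncomputable def resIdIso (τ : B' →+* B') (h : τ = RingHom.id B') (L : DRing.Cx B') :
    (resCx τ).obj L ≅ L :=
  HomologicalComplex.Hom.isoOfComponents
    (fun i => (ModuleCat.restrictScalarsId'.{u} τ h).app (L.X i))
    (fun i j _ => ((ModuleCat.restrictScalarsId'.{u} τ h).hom.naturality (L.d i j)).symm)

/-- restricting twice along mutually inverse ring maps -/
noncomputable def resResIso (β : B →+* B') (σ : B' →+* B) (h : β.comp σ = RingHom.id B')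
    (L : DRing.Cx B') : (resCx σ).obj ((resCx β).obj L) ≅ L :=
  resResIso₁ β σ L ≪≫ resIdIso (β.comp σ) h L

/-- tor amplitude over `B` of the restriction along a bijective ring map `B → B'` gives tor
amplitude over `B'` -/
theorem hasTorAmplitudeIn_of_resCx_bijective (β : B →+* B') (hβ : Function.Bijective β)
    (L : DRing.Cx B') (a b : ℤ)
    (h : DRing.HasTorAmplitudeIn B a b (DRing.toD ((resCx β).obj L))) :
    DRing.HasTorAmplitudeIn B' a b (DRing.toD L) := by
  let eq : B ≃+* B' := RingEquiv.ofBijective β hβ
  let σ : B' →+* B := eq.symm.toRingHom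
  have hσ : Function.Bijective σ := eq.symm.bijective
  have hcomp : β.comp σ = RingHom.id B' := by
    ext t
    exact eq.apply_symm_apply t
  letI : Algebra B' B := σ.toAlgebra
  haveI : Module.Flat B' B := RingHom.Flat.of_bijective hσ
  have hB : DRing.HasTorAmplitudeIn B' (-((0 : ℕ) : ℤ)) 0 (Dual.inD B' B) := by
    simpa using hasTorAmplitudeIn_single_of_flat (ModuleCat.of B' B)
  have h1 := Groth.Agent.Helper5.TorRes.s6947 0 hB _ a b h
  have e1 : (DRing.restrictD (algebraMap B' B)).obj (DRing.toD ((resCx β).obj L)) ≅
      DRing.toD L :=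
    (resFactors σ).app ((resCx β).obj L) ≪≫ DerivedCategory.Q.mapIso (resResIso β σ hcomp L)
  have h2 := hasTorAmplitudeIn_of_iso e1 h1
  simpa using h2

end Groth.Agent.Lib.Helper5.TensorAmp
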