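import Mathlib
import Groth.Agent.Lib.Helper5.TensorAmp.TensorAmpD

/-!
# The tensor product of a K-flat complex with cohomology `≤ a` and a complex with cohomology `≤ b`
has cohomology `≤ a + b` (helper5)
-/
set_option autoImplicit false
set_option linter.unusedSectionVars false
set_option linter.unusedVariables false
set_option linter.style.haveILetI false
universe u
open CategoryTheory CategoryTheory.Limits MonoidalCategory HomologicalComplex
attribute [local instance] HasDerivedCategory.standard

namespace Groth.Agent.Lib.Helper5.TensorLE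

open Groth.Agent.Lib.Helper5.KProj Groth.Agent.Lib.Helper5.KFlat Groth.Agent.Lib.Helper5.DTenLib
open Groth.Agent.Helper5.TorAmp Groth.Agent.Lib.Helper5.TensorAmp
open DTen _root_.Helper5.Gen

variable {A : Type u} [CommRing A]

/-- a complex with vanishing cohomology above `b` is `≤ b` in the derived category -/
theorem isLE_toD_of_homology (F : DRing.Cx A) (b : ℤ)
    (h : ∀ i : ℤ, b < i → IsZero (F.homology i)) : (DRing.toD F).IsLE b := by
  rw [DerivedCategory.isLE_iff]
  intro i hi
  exact IsZero.of_iso (h i hi) ((DerivedCategory.homologyFunctorFactors (ModuleCat.{u} A) i).app F)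

/-- termwise vanishing of a tensor product of bounded above complexes -/
theorem isZero_tensor_X (P G : DRing.Cx A) (a b : ℤ) (hP : DRing.VanishesAbove P a)
    (hG : DRing.VanishesAbove G b) (n : ℤ) (hn : a + b < n) : IsZero ((P ⊗ G).X n) := by
  rw [IsZero.iff_id_eq_zero]
  apply HomologicalComplex.mapBifunctor.hom_ext
  intro p q h
  have hpq : p + q = n := h
  by_cases hp : a < p
  · have hz : IsZero (P.X p ⊗ G.X q) :=
      Functor.map_isZero ((curriedTensor (ModuleCat.{u} A)).flip.obj (G.X q)) (hP p hp)
    exact hz.eq_of_src _ _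
  · have hq : b < q := by omega
    have hz : IsZero (P.X p ⊗ G.X q) :=
      Functor.map_isZero ((curriedTensor (ModuleCat.{u} A)).obj (P.X p)) (hG q hq)
    exact hz.eq_of_src _ _

/-- a bounded above projective resolution of a complex with cohomology `≤ b` -/
theorem exists_bdd_resolution (F : DRing.Cx A) (b : ℤ)
    (h : ∀ i : ℤ, b < i → IsZero (F.homology i)) :
    ∃ (G : DRing.Cx A) (g : G ⟶ F), QuasiIso g ∧ DRing.VanishesAbove G b ∧ DRing.IsKFlat A G := by
  haveI := isLE_toD_of_homology F b h
  obtain ⟨G, hGv, hGp, hGk, ⟨e⟩⟩ := exists_proj_rep (DRing.toD F) b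
  haveI := hGk
  obtain ⟨g, hg⟩ := exists_Q_map_eq G F e.hom
  refine ⟨G, g, ?_, hGv, ?_⟩
  · rw [← DerivedCategory.isIso_Q_map_iff_quasiIso, hg]
    infer_instance
  · exact isKFlat_of_bounded_above G b hGv (fun n => by
      haveI := hGp n
      have : Module.Projective A (G.X n) := (IsProjective.iff_projective (G.X n)).2 (hGp n)
      infer_instance)

/-- **cohomological bound for a tensor product** -/
theorem isZero_homology_tensor_of_isLE (P F : DRing.Cx A) (hP : DRing.IsKFlat A P) (a b : ℤ)
    (hPa : ∀ i : ℤ, a < i → IsZero (P.homology i)) (hFb : ∀ i : ℤ, b < i → IsZero (F.homology i))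
    (i : ℤ) (hi : a + b < i) : IsZero ((P ⊗ F).homology i) := by
  obtain ⟨G, g, hg, hGv, hGk⟩ := exists_bdd_resolution F b hFb
  obtain ⟨P', p, hp, hPv, hPk⟩ := exists_bdd_resolution P a hPa
  have q1 : QuasiIso (P ◁ g) := quasiIso_whiskerLeft hP g hg
  have q2 : QuasiIso (p ▷ G) := quasiIso_whiskerRight hGk p hp
  rw [← isZero_homology_iff_of_quasiIso' _ q1 i, ← isZero_homology_iff_of_quasiIso' _ q2 i,
    ← exactAt_iff_isZero_homology]
  exact HomologicalComplex.ExactAt.of_isZero (isZero_tensor_X P' G a b hPv hGv i hi)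

end Groth.Agent.Lib.Helper5.TensorLE
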