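import Mathlib
import Groth.Agent.Lib.Helper5.TensorAmp.TensorLE
import Groth.Agent.Lib.Helper5.Gen.ProjCx

/-!
# Extension of scalars of a K-flat complex with cohomology `≤ a` has cohomology `≤ a` (helper5)
-/
set_option autoImplicit false
set_option linter.unusedSectionVars false
set_option linter.unusedVariables false
set_option linter.style.haveILetI false
universe u
open CategoryTheory CategoryTheory.Limits MonoidalCategory HomologicalComplex
attribute [local instance] HasDerivedCategory.standard

namespace Groth.Agent.Lib.Helper5.TensorLE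

open Groth.Agent.Lib.Helper5.TensorAmp
open DTen _root_.Helper5.Gen

variable {R S : Type u} [CommRing R] [CommRing S] (φ : R →+* S)

/-- **right t-exactness of extension of scalars on K-flat complexes** -/
theorem isZero_homology_extCx_of_isLE (P : DRing.Cx R) (hP : DRing.IsKFlat R P) (a : ℤ)
    (hPa : ∀ i : ℤ, a < i → IsZero (P.homology i)) (i : ℤ) (hi : a < i) :
    IsZero (((extCx φ).obj P).homology i) := by
  rw [← isZero_homology_resCx_iff φ]
  let e : (resCx φ).obj ((extCx φ).obj P) ≅ P ⊗ (resCx φ).obj (𝟙_ (DRing.Cx S)) :=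
    (resCx φ).mapIso (ρ_ ((extCx φ).obj P)).symm ≪≫ (asIso (pf φ P (𝟙_ (DRing.Cx S)))).symm
  refine IsZero.of_iso ?_ ((HomologicalComplex.homologyFunctor _ _ i).mapIso e)
  refine isZero_homology_tensor_of_isLE P _ hP a 0 hPa (fun j hj => ?_) i (by omega)
  rw [← exactAt_iff_isZero_homology]
  apply HomologicalComplex.ExactAt.of_isZero
  have hz : IsZero ((𝟙_ (DRing.Cx S)).X j) :=
    HomologicalComplex.isZero_single_obj_X (ComplexShape.up ℤ) 0 _ j (by omega)
  exact Functor.map_isZero (ModuleCat.restrictScalars.{u} φ) hz

end Groth.Agent.Lib.Helper5.TensorLE
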